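import Mathlib.GroupTheory.Finiteness
import Mathlib.RingTheory.Noetherian.Basic
import Mathlib.RingTheory.Finiteness.Finsupp
import Mathlib.RingTheory.PrincipalIdealDomain
import Mathlib.Algebra.EuclideanDomain.Int
import Mathlib.GroupTheory.QuotientGroup.Basic

/-!
# Finitely generated commutative groups: subgroups, kernels and extensions
-/

set_option autoImplicit false

namespace Groth.Agent.MultTori.K605.FG

universe u v w

theorem iff_finite (G : Type u) [CommGroup G] : Group.FG G ↔ Module.Finite ℤ (Additive G) := by
  rw [Module.Finite.iff_addGroup_fg, GroupFG.iff_add_fg]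

/-- A subgroup of a finitely generated commutative group is finitely generated. -/
theorem of_injective {G : Type u} {H : Type v} [CommGroup G] [CommGroup H] (f : G →* H)
    (hf : Function.Injective f) (hH : Group.FG H) : Group.FG G := by
  rw [iff_finite] at hH ⊢
  exact Module.Finite.of_injective f.toAdditive.toIntLinearMap hf

theorem of_surjective {G : Type u} {H : Type v} [CommGroup G] [CommGroup H] (f : G →* H)
    (hf : Function.Surjective f) (hG : Group.FG G) : Group.FG H := by
  rw [iff_finite] at hG ⊢
  exact Module.Finite.of_surjective f.toAdditive.toIntLinearMap hf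

/-- An extension of finitely generated commutative groups is finitely generated. -/
theorem of_ker {G : Type u} {H : Type v} [CommGroup G] [CommGroup H] (f : G →* H)
    (hk : Group.FG f.ker) (hH : Group.FG H) : Group.FG G := by
  rw [iff_finite] at hH ⊢
  have h1 : (f.toAdditive.toIntLinearMap).ker.FG := by
    rw [← Module.Finite.iff_fg]
    rw [iff_finite] at hk
    let g : Additive f.ker →ₗ[ℤ] (f.toAdditive.toIntLinearMap).ker :=
      { toFun := fun x => ⟨Additive.ofMul (x.toMul : G), by
          change f (x.toMul : G) = 1
          exact x.toMul.2⟩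
        map_add' := fun x y => rfl
        map_smul' := fun n x => by
          apply Subtype.ext
          rfl }
    refine Module.Finite.of_surjective g ?_
    rintro ⟨x, hx⟩
    exact ⟨Additive.ofMul ⟨x.toMul, hx⟩, rfl⟩
  have h2 : (f.toAdditive.toIntLinearMap).range.FG := by
    rw [← Module.Finite.iff_fg]
    infer_instance
  rw [Module.finite_def]
  refine Submodule.fg_of_fg_map_of_fg_inf_ker f.toAdditive.toIntLinearMap ?_ ?_
  · rw [← LinearMap.range_eq_map]; exact h2
  · rw [top_inf_eq]; exact h1

/-- If `f : G → H` has finitely generated kernel and `H` is finitely generated. -/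
theorem of_exact {K : Type w} {G : Type u} {H : Type v} [CommGroup K] [CommGroup G] [CommGroup H]
    (i : K →* G) (f : G →* H) (h : ∀ x, f x = 1 → ∃ y, i y = x) (hK : Group.FG K)
    (hH : Group.FG H) : Group.FG G := by
  refine of_ker f ?_ hH
  have h1 : Group.FG i.range := of_surjective i.rangeRestrict i.rangeRestrict_surjective hK
  refine of_injective (H := i.range) (Subgroup.inclusion fun x hx => ?_)
    (Subgroup.inclusion_injective _) h1
  exact h x hx

/-- A finitely generated group generated by a set is generated by a finite subset. -/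
theorem exists_finite {G : Type u} [CommGroup G] (hG : Group.FG G) (S : Set G)
    (hS : Subgroup.closure S = ⊤) : ∃ T : Finset G, (T : Set G) ⊆ S ∧
      Subgroup.closure (T : Set G) = ⊤ := by
  classical
  obtain ⟨F, hF⟩ := hG.out
  have h1 : ∀ x, ∃ T : Finset G, (T : Set G) ⊆ S ∧ x ∈ Subgroup.closure (T : Set G) := by
    intro x
    have hx : x ∈ Subgroup.closure S := by rw [hS]; trivial
    induction hx using Subgroup.closure_induction with
    | mem x hx => exact ⟨{x}, by simpa using hx, Subgroup.subset_closure (by simp)⟩
    | one => exact ⟨∅, by simp, one_mem _⟩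
    | mul x y _ _ hx hy =>
      obtain ⟨T, hT, hxT⟩ := hx
      obtain ⟨T', hT', hyT⟩ := hy
      refine ⟨T ∪ T', by simp [hT, hT'], mul_mem ?_ ?_⟩
      · exact Subgroup.closure_mono (by simp) hxT
      · exact Subgroup.closure_mono (by simp) hyT
    | inv x _ hx =>
      obtain ⟨T, hT, hxT⟩ := hx
      exact ⟨T, hT, inv_mem hxT⟩
  choose T hT hxT using h1
  refine ⟨F.biUnion T, ?_, ?_⟩
  · intro x hx
    simp only [Finset.coe_biUnion, Set.mem_iUnion] at hx
    obtain ⟨y, hy, hx⟩ := hx
    exact hT y hx
  · rw [eq_top_iff, ← hF, Subgroup.closure_le]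
    intro x hx
    refine Subgroup.closure_mono ?_ (hxT x)
    intro z hz
    simp only [Finset.coe_biUnion, Set.mem_iUnion]
    exact ⟨x, hx, hz⟩

end Groth.Agent.MultTori.K605.FG
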