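import Mathlib.RingTheory.RegularLocalRing.Defs
import Mathlib.RingTheory.FiniteType
import Mathlib.GroupTheory.Finiteness
import Mathlib.RingTheory.PicardGroup
import Mathlib.AlgebraicGeometry.Group.Abelian
import Mathlib.AlgebraicGeometry.Geometrically.Connected
import Mathlib.FieldTheory.Separable
import Mathlib.RingTheory.Polynomial.UniqueFactorization

/-!
# Finitely generated fields and their models: the induction statements
-/

set_option autoImplicit false
universe u

namespace Groth.Agent.MultTori.K605.Defs

open CategoryTheory MonoidalCategory CartesianMonoidalCategory MonObj GrpObj AlgebraicGeometry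

/-- `L` is finite separable over the field of rational functions in `n` variables over its prime
field (`D = ℤ` or `D = 𝔽_p`). -/
def IsFG (n : ℕ) (L : Type u) [Field L] : Prop :=
  ∃ (D : Type u) (_ : CommRing D) (_ : IsDomain D)
    (_ : Algebra (FractionRing (MvPolynomial (Fin n) D)) L),
    Function.Surjective (Int.castRingHom D) ∧
    Module.Finite (FractionRing (MvPolynomial (Fin n) D)) L ∧
    Algebra.IsSeparable (FractionRing (MvPolynomial (Fin n) D)) L

/-- `L` is the field of fractions of a factorial regular domain of finite type over `ℤ`. -/
def HasUFD (L : Type u) [Field L] : Prop :=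
  ∃ (A : Type u) (_ : CommRing A) (_ : IsDomain A) (_ : Algebra A L),
    IsFractionRing A L ∧ Algebra.FiniteType ℤ A ∧ UniqueFactorizationMonoid A ∧ IsRegularRing A

/-- Every finitely generated field of transcendence degree `n` has a factorial model. -/
def U (n : ℕ) : Prop := ∀ (L : Type u) [Field L], IsFG n L → HasUFD L

/-- Mordell-Weil over finitely generated fields of transcendence degree `n`. -/
def MW (n : ℕ) : Prop := ∀ (L : Type u) [Field L], IsFG n L →
  ∀ (A : Over (Spec (CommRingCat.of L))) [GrpObj A] [IsProper A.hom] [Smooth A.hom]
    [GeometricallyConnected A.hom], Group.FG (𝟙_ (Over (Spec (CommRingCat.of L))) ⟶ A)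

end Groth.Agent.MultTori.K605.Defs
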