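import Groth.Agent.MultTori.K605.FG
import Mathlib.RingTheory.PicardGroup
import Mathlib.RingTheory.Flat.FaithfullyFlat.Algebra
import Mathlib.RingTheory.RingHom.FaithfullyFlat

/-!
# The kernel of `Pic R → Pic A` for a faithfully flat `R`-algebra `A` embeds, up to the group of
invertible submodules, into the units of `A ⊗[R] A`
-/

set_option autoImplicit false
set_option backward.isDefEq.respectTransparency false
universe u v

open TensorProduct CommRing

namespace Groth.Agent.MultTori.K605.PicKer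

variable {R : Type u} {A : Type v} [CommRing R] [CommRing A] [Algebra R A]

/-- Faithfully flat descent of elements. -/
theorem mem_one_of_tmul_eq [Module.FaithfullyFlat R A] (x : A)
    (h : (1 : A) ⊗ₜ[R] x = x ⊗ₜ[R] 1) : x ∈ (1 : Submodule R A) := by
  rw [Submodule.one_eq_range]
  let D : Submodule R A := LinearMap.range (Algebra.linearMap R A)
  have h1 : (1 : A) ⊗ₜ[R] (D.mkQ x) = 0 := by
    have h2 := congrArg (LinearMap.lTensor A D.mkQ) h
    rw [LinearMap.lTensor_tmul, LinearMap.lTensor_tmul] at h2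
    have h3 : D.mkQ (1 : A) = 0 := by
      rw [← LinearMap.mem_ker, Submodule.ker_mkQ]
      exact ⟨1, by simp⟩
    rw [h3, TensorProduct.tmul_zero] at h2
    exact h2
  have h4 := Module.FaithfullyFlat.tensorProduct_mk_injective (A := R) (B := A) (A ⧸ D)
    (a₁ := D.mkQ x) (a₂ := 0) (by simpa using h1)
  rwa [← LinearMap.mem_ker, Submodule.ker_mkQ] at h4

/-- The image of `I ⊗ J` in `A ⊗ A`. -/
def tens (I J : Submodule R A) : Submodule R (A ⊗[R] A) :=
  LinearMap.range (TensorProduct.map I.subtype J.subtype)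

theorem tmul_mem {I J : Submodule R A} {x y : A} (hx : x ∈ I) (hy : y ∈ J) :
    x ⊗ₜ[R] y ∈ tens I J := ⟨(⟨x, hx⟩ : I) ⊗ₜ[R] (⟨y, hy⟩ : J), rfl⟩

theorem tens_induction {I J : Submodule R A} {P : A ⊗[R] A → Prop}
    (h0 : P 0) (hadd : ∀ a b, P a → P b → P (a + b))
    (ht : ∀ x ∈ I, ∀ y ∈ J, P (x ⊗ₜ[R] y)) {w : A ⊗[R] A} (hw : w ∈ tens I J) : P w := by
  obtain ⟨t, rfl⟩ := hw
  induction t with
  | zero => rw [map_zero]; exact h0
  | tmul x y => exact ht x x.2 y y.2
  | add a b ha hb => rw [map_add]; exact hadd _ _ ha hb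

theorem mul_mem {I J I' J' : Submodule R A} {w w' : A ⊗[R] A} (hw : w ∈ tens I J)
    (hw' : w' ∈ tens I' J') : w * w' ∈ tens (I * I') (J * J') := by
  refine tens_induction (P := fun w => w * w' ∈ tens (I * I') (J * J')) ?_ ?_ ?_ hw
  · rw [zero_mul]; exact zero_mem _
  · intro a b ha hb; rw [add_mul]; exact add_mem ha hb
  · intro x hx y hy
    refine tens_induction (P := fun w' => x ⊗ₜ[R] y * w' ∈ tens (I * I') (J * J')) ?_ ?_ ?_ hw'
    · rw [mul_zero]; exact zero_mem _
    · intro a b ha hb; rw [mul_add]; exact add_mem ha hb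
    · intro x' hx' y' hy'
      rw [Algebra.TensorProduct.tmul_mul_tmul]
      exact tmul_mem (Submodule.mul_mem_mul hx hx') (Submodule.mul_mem_mul hy hy')

/-- The multiplication `A ⊗ A → A`. -/
noncomputable abbrev μ : A ⊗[R] A →ₐ[R] A := Algebra.TensorProduct.lmul' R

variable [FaithfulSMul R A]

theorem eq_of_mul_eq (I : (Submodule R A)ˣ) {w w' : A ⊗[R] A}
    (hw : w ∈ tens (I : Submodule R A) (I⁻¹ : (Submodule R A)ˣ))
    (hw' : w' ∈ tens (I : Submodule R A) (I⁻¹ : (Submodule R A)ˣ))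
    (h : μ (R := R) w = μ (R := R) w') : w = w' := by
  obtain ⟨t, rfl⟩ := hw
  obtain ⟨t', rfl⟩ := hw'
  have key : ∀ t : (I : Submodule R A) ⊗[R] ((I⁻¹ : (Submodule R A)ˣ) : Submodule R A),
      μ (R := R) (TensorProduct.map (Submodule.subtype _) (Submodule.subtype _) t) =
        (Submodule.tensorEquivMul I (I⁻¹) t : A) := by
    intro t
    induction t with
    | zero => rw [map_zero, map_zero, map_zero, Submodule.coe_zero]
    | tmul x y => rfl
    | add a b ha hb => rw [map_add, map_add, map_add, Submodule.coe_add, ha, hb]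
  rw [key, key] at h
  have h2 := (Submodule.tensorEquivMul I (I⁻¹)).injective (Subtype.ext h)
  rw [h2]

theorem exists_w (I : (Submodule R A)ˣ) : ∃ w : A ⊗[R] A,
    w ∈ tens (I : Submodule R A) (I⁻¹ : (Submodule R A)ˣ) ∧ μ (R := R) w = 1 := by
  have h1 : (1 : A) ∈ (I : Submodule R A) * ((I⁻¹ : (Submodule R A)ˣ) : Submodule R A) := by
    rw [Units.mul_inv]
    exact Submodule.one_le.1 le_rfl
  refine Submodule.mul_induction_on (C := fun a => ∃ w : A ⊗[R] A,
    w ∈ tens (I : Submodule R A) (I⁻¹ : (Submodule R A)ˣ) ∧ μ (R := R) w = a) h1 ?_ ?_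
  · intro x hx y hy
    exact ⟨x ⊗ₜ[R] y, tmul_mem hx hy, by simp [μ]⟩
  · rintro x y ⟨w, hw, rfl⟩ ⟨w', hw', rfl⟩
    exact ⟨w + w', add_mem hw hw', map_add _ _ _⟩

/-- The cocycle of an invertible submodule. -/
noncomputable def wt (I : (Submodule R A)ˣ) : A ⊗[R] A := (exists_w I).choose

theorem wt_mem (I : (Submodule R A)ˣ) :
    wt I ∈ tens (I : Submodule R A) (I⁻¹ : (Submodule R A)ˣ) := (exists_w I).choose_spec.1

theorem mul_wt (I : (Submodule R A)ˣ) : μ (R := R) (wt I) = 1 := (exists_w I).choose_spec.2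

/-- The cocycle as a homomorphism. -/
noncomputable def wtHom : (Submodule R A)ˣ →* A ⊗[R] A where
  toFun := wt
  map_one' := by
    apply eq_of_mul_eq 1 (wt_mem 1)
    · rw [Algebra.TensorProduct.one_def]
      exact tmul_mem (Submodule.one_le.1 le_rfl) (by rw [inv_one]; exact Submodule.one_le.1 le_rfl)
    · rw [mul_wt, map_one]
  map_mul' I J := by
    apply eq_of_mul_eq (I * J) (wt_mem _)
    · have h := mul_mem (wt_mem I) (wt_mem J)
      rw [mul_inv]
      exact h
    · rw [mul_wt, map_mul, mul_wt, mul_wt, mul_one]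

theorem tmul_mul_eq (I : (Submodule R A)ˣ) {b : A}
    (hb : b ∈ ((I⁻¹ : (Submodule R A)ˣ) : Submodule R A)) {w : A ⊗[R] A}
    (hw : w ∈ tens (I : Submodule R A) (I⁻¹ : (Submodule R A)ˣ)) :
    (b ⊗ₜ[R] 1) * w = 1 ⊗ₜ[R] (b * μ (R := R) w) := by
  refine tens_induction (P := fun w => (b ⊗ₜ[R] 1) * w = 1 ⊗ₜ[R] (b * μ (R := R) w)) ?_ ?_ ?_ hw
  · simp
  · intro x y hx hy
    rw [mul_add, hx, hy, map_add, mul_add, TensorProduct.tmul_add]
  · intro x hx y hy
    have h1 : b * x ∈ (1 : Submodule R A) := by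
      rw [← I.inv_mul]
      exact Submodule.mul_mem_mul hb hx
    rw [Submodule.mem_one] at h1
    obtain ⟨r, hr⟩ := h1
    have h2 : μ (R := R) (x ⊗ₜ[R] y) = x * y := by simp [μ]
    rw [Algebra.TensorProduct.tmul_mul_tmul, one_mul, h2, ← mul_assoc, ← hr,
      Algebra.algebraMap_eq_smul_one, TensorProduct.smul_tmul, smul_one_mul]

theorem le_one_of_wt_eq [Module.FaithfullyFlat R A] (I : (Submodule R A)ˣ) (h : wt I = 1) :
    ((I⁻¹ : (Submodule R A)ˣ) : Submodule R A) ≤ 1 := by
  intro b hb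
  have h1 := tmul_mul_eq I hb (wt_mem I)
  rw [h, mul_one, map_one, mul_one] at h1
  exact mem_one_of_tmul_eq b h1.symm

theorem wtHom_injective [Module.FaithfullyFlat R A] :
    Function.Injective (wtHom (R := R) (A := A)) := by
  rw [injective_iff_map_eq_one]
  intro I hI
  have h1 := le_one_of_wt_eq I hI
  have h2 : wtHom (R := R) (A := A) I⁻¹ = 1 := by
    have h3 : wtHom (R := R) (A := A) (I * I⁻¹) = 1 := by rw [mul_inv_cancel, map_one]
    rwa [map_mul, hI, one_mul] at h3
  have h3 := le_one_of_wt_eq I⁻¹ h2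
  rw [inv_inv] at h3
  apply Units.ext
  apply le_antisymm h3
  calc ((1 : (Submodule R A)ˣ) : Submodule R A) = (I : Submodule R A) * (I⁻¹ : (Submodule R A)ˣ) := by
        rw [Units.mul_inv, Units.val_one]
    _ ≤ (I : Submodule R A) * 1 := mul_le_mul' le_rfl h1
    _ = I := mul_one _

omit [FaithfulSMul R A] in
/-- If the units of `A ⊗ A` are finitely generated, so is the kernel of `Pic R → Pic A`. -/
theorem fg_relPic [Module.FaithfullyFlat R A] (h : Group.FG (A ⊗[R] A)ˣ) :
    Group.FG (CommRing.relPic R A) := by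
  have : FaithfulSMul R A := inferInstance
  have h1 : Group.FG (Submodule R A)ˣ := by
    refine FG.of_injective (wtHom (R := R) (A := A)).toHomUnits ?_ h
    intro I J hIJ
    exact wtHom_injective (congrArg Units.val hIJ)
  rw [← Submodule.range_unitsToPic]
  exact FG.of_surjective (Submodule.unitsToPic R A).rangeRestrict
    (MonoidHom.rangeRestrict_surjective _) h1

omit [FaithfulSMul R A] in
/-- Descent of finite generation of the Picard group along a faithfully flat algebra. -/
theorem fg_pic [Module.FaithfullyFlat R A] (h : Group.FG (A ⊗[R] A)ˣ)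
    (hA : Group.FG (CommRing.Pic A)) : Group.FG (CommRing.Pic R) :=
  FG.of_ker (CommRing.Pic.mapAlgebra R A) (fg_relPic h) hA

end Groth.Agent.MultTori.K605.PicKer
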